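import Groth.Agent.DTenLib.Basic
import Groth.Agent.DRingKP.DCEv
import Groth.Prelude.Def_DTen3
import Mathlib.Algebra.Homology.BifunctorShift
import Mathlib.Algebra.Homology.DerivedCategory.TStructure

/-!
`A[-i] ⊗^L Y ≅ Y[-i]`, and cohomology as maps out of `A[-i]`.
-/

set_option autoImplicit false
set_option backward.isDefEq.respectTransparency false
set_option backward.isDefEq.respectTransparency.types false
set_option linter.style.haveILetI false
universe u

namespace Groth.Agent.DTenPC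

open CategoryTheory Limits MonoidalCategory

attribute [local instance] HasDerivedCategory.standard

variable {A : Type u} [CommRing A]

/-- the cohomology functors -/
noncomputable abbrev hf (A : Type u) [CommRing A] (i : ℤ) : Dual.D A ⥤ ModuleCat.{u} A :=
  DerivedCategory.homologyFunctor (ModuleCat.{u} A) i

/-- `A[-i]` -/
noncomputable abbrev oU (A : Type u) [CommRing A] (i : ℤ) : Dual.D A :=
  ((DerivedCategory.singleFunctor (ModuleCat.{u} A) 0).obj (ModuleCat.of A A))⟦-i⟧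

/-- Cohomology in degree `i` as maps out of `A[-i]`. -/
noncomputable def hEquiv (i : ℤ) (X : Dual.D A) : (oU A i ⟶ X) ≃ ((hf A i).obj X : Type u) :=
  haveI : Projective (ModuleCat.of A A) := (IsProjective.iff_projective _).1 inferInstance
  ((shiftEquiv' (Dual.D A) (-i) i (by lia)).toAdjunction.homEquiv _ _).trans
    ((Equiv.ofBijective _ (DRingKP.ev0_bijective (P := ModuleCat.of A A) (X⟦i⟧))).trans
      ((ModuleCat.homEquiv).trans ((LinearMap.ringLmapEquivSelf A A _).toEquiv.trans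
        (((hf A 0).shiftIso i 0 i (by lia)).app X).toLinearEquiv.toEquiv)))

theorem hEquiv_comp (i : ℤ) {X Y : Dual.D A} (f : X ⟶ Y) (u : oU A i ⟶ X) :
    hEquiv i Y (u ≫ f) = ((hf A i).map f).hom (hEquiv i X u) := by
  simp only [hEquiv, Equiv.trans_apply, Equiv.ofBijective_apply]
  refine (congrArg (fun t => (((hf A 0).shiftIso i 0 i (by lia)).app Y).toLinearEquiv.toEquiv
    ((LinearMap.ringLmapEquivSelf A A _).toEquiv (ModuleCat.homEquiv t)))
    ((congrArg DRingKP.ev0 ((shiftEquiv' (Dual.D A) (-i) i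
      (by lia)).toAdjunction.homEquiv_naturality_right u f)).trans (DRingKP.ev0_comp _ _))).trans ?_
  exact ConcreteCategory.congr_hom (((hf A 0).shiftIso i 0 i (by lia)).hom.naturality f) _

theorem isIso_H_iff (i : ℤ) {X Y : Dual.D A} (f : X ⟶ Y) :
    IsIso ((hf A i).map f) ↔ Function.Bijective (fun u : oU A i ⟶ X => u ≫ f) := by
  rw [ConcreteCategory.isIso_iff_bijective]
  have h : (⇑(ConcreteCategory.hom ((hf A i).map f))) ∘ hEquiv i X =
      hEquiv i Y ∘ fun u : oU A i ⟶ X => u ≫ f := by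
    funext u; exact (hEquiv_comp i f u).symm
  rw [← (hEquiv i Y).bijective.of_comp_iff', ← h]
  exact (Function.Bijective.of_comp_iff _ (hEquiv i X).bijective).symm

/-- the unit complex moved to degree `-n` -/
noncomputable abbrev uCx (A : Type u) [CommRing A] (n : ℤ) : DRing.Cx A := (𝟙_ (DRing.Cx A))⟦n⟧

theorem isKFlat_uCx (n : ℤ) : DRing.IsKFlat A (uCx A n) := fun M hM i => by
  let e : M ⊗ uCx A n ≅ M⟦n⟧ :=
    CochainComplex.mapBifunctorShift₂Iso M (𝟙_ (DRing.Cx A)) (curriedTensor (ModuleCat.{u} A)) n ≪≫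
      (shiftFunctor (DRing.Cx A) n).mapIso (ρ_ M)
  refine IsZero.of_iso (IsZero.of_iso (hM (n + i))
    ((CochainComplex.shiftShortComplexFunctorIso (ModuleCat.{u} A) n i (n + i) rfl).app M |>
      ShortComplex.homologyMapIso)) ((HomologicalComplex.homologyFunctor _ _ i).mapIso e)

/-- `(1[n]) ⊗ L ≅ L[n]` -/
noncomputable def uCxTensor (n : ℤ) (L : DRing.Cx A) : uCx A n ⊗ L ≅ L⟦n⟧ :=
  CochainComplex.mapBifunctorShift₁Iso (𝟙_ (DRing.Cx A)) L (curriedTensor (ModuleCat.{u} A)) n ≪≫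
    (shiftFunctor (DRing.Cx A) n).mapIso (λ_ L)

theorem uCxTensor_natural (n : ℤ) {L L' : DRing.Cx A} (g : L ⟶ L') :
    uCx A n ◁ g ≫ (uCxTensor n L').hom = (uCxTensor n L).hom ≫ g⟦n⟧' := by
  have h : uCx A n ◁ g ≫
      (CochainComplex.mapBifunctorShift₁Iso (𝟙_ (DRing.Cx A)) L'
        (curriedTensor (ModuleCat.{u} A)) n).hom =
      (CochainComplex.mapBifunctorShift₁Iso (𝟙_ (DRing.Cx A)) L
        (curriedTensor (ModuleCat.{u} A)) n).hom ≫ ((𝟙_ (DRing.Cx A)) ◁ g)⟦n⟧' :=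
    (NatTrans.shift_app_comm ((curriedTensor (ModuleCat.{u} A)).map₂CochainComplex.flip.map g) n
      (𝟙_ (DRing.Cx A))).symm
  simp only [uCxTensor, Iso.trans_hom, Functor.mapIso_hom, reassoc_of% h, Category.assoc,
    ← Functor.map_comp, id_whiskerLeft, Iso.inv_hom_id, Category.comp_id]

variable [DTen.HasLTen A]

/-- `A[-i]` by a complex -/
noncomputable def oUIso (i : ℤ) : oU A i ≅ DerivedCategory.Q.obj (uCx A (-i)) :=
  (shiftFunctor (Dual.D A) (-i)).mapIso
      ((DerivedCategory.singleFunctorIsoCompQ (ModuleCat.{u} A) 0).app (ModuleCat.of A A)) ≪≫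
    ((DerivedCategory.Q.commShiftIso (-i)).app (𝟙_ (DRing.Cx A))).symm

/-- `A[-i] ⊗^L Y ≅ Y[-i]` before descending to `D(A)` -/
noncomputable def thetaCx (i : ℤ) :
    DerivedCategory.Q ⋙ (DTen.LTen A).obj (DerivedCategory.Q.obj (uCx A (-i))) ≅
      DerivedCategory.Q ⋙ shiftFunctor (Dual.D A) (-i) :=
  NatIso.ofComponents (fun L =>
    haveI := DTenLib.isIso_ε_left (isKFlat_uCx (A := A) (-i)) L
    asIso ((DTen.ε A).app (uCx A (-i), L)) ≪≫
      DerivedCategory.Q.mapIso (uCxTensor (-i) L) ≪≫ (DerivedCategory.Q.commShiftIso (-i)).app L)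
    fun {L L'} g => by
      have e := (DTen.ε A).naturality
        (Prod.mkHom (𝟙 (uCx A (-i))) g : (uCx A (-i), L) ⟶ (uCx A (-i), L'))
      dsimp at e ⊢
      rw [CategoryTheory.Functor.map_id] at e
      rw [reassoc_of% e]
      simp only [Category.assoc, id_whiskerRight, Category.id_comp]
      rw [← Functor.map_comp_assoc, uCxTensor_natural, Functor.map_comp_assoc]
      congr 2
      exact (DerivedCategory.Q.commShiftIso (-i)).hom.naturality g

/-- `A[-i] ⊗^L Y ≅ Y[-i]`, natural in `Y` -/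
noncomputable def theta (i : ℤ) : (DTen.LTen A).obj (oU A i) ≅ shiftFunctor (Dual.D A) (-i) :=
  (DTen.LTen A).mapIso (oUIso i) ≪≫
    (Localization.liftNatIso DerivedCategory.Q (DTen.qis A)
      (DerivedCategory.Q ⋙ (DTen.LTen A).obj (DerivedCategory.Q.obj (uCx A (-i))))
      (DerivedCategory.Q ⋙ shiftFunctor (Dual.D A) (-i)) _ _ (thetaCx i))

variable [DTen.HasRHom A]

/-- Cohomology of `RHom(Y, Z)` as maps `Y[-i] → Z`. -/
noncomputable def hRHom (i : ℤ) (Y Z : Dual.D A) :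
    (oU A i ⟶ (DTen.RHomR A Y).obj Z) ≃ (Y⟦-i⟧ ⟶ Z) :=
  ((DTen.rhomAdj A Y).homEquiv _ _).symm.trans (Iso.homFromEquiv ((theta i).app Y))

theorem hRHom_map (i : ℤ) {Y Y' : Dual.D A} (g : Y ⟶ Y') (Z : Dual.D A)
    (u : oU A i ⟶ (DTen.RHomR A Y').obj Z) :
    hRHom i Y Z (u ≫ DTen.RHomMap g Z) = g⟦-i⟧' ≫ hRHom i Y' Z u := by
  have h1 : ((DTen.rhomAdj A Y).homEquiv (oU A i) Z).symm (u ≫ DTen.RHomMap g Z) =
      ((DTen.LTen A).obj (oU A i)).map g ≫ ((DTen.rhomAdj A Y').homEquiv _ _).symm u := by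
    rw [Adjunction.homEquiv_counit, Adjunction.homEquiv_counit, Functor.map_comp, Category.assoc]
    refine (congrArg _ (DTen.RHom_map_ev g Z)).trans ?_
    rw [← Category.assoc, ← Category.assoc]
    congr 1
    exact ((DTen.LTen₂ A).map_comp _ _).symm.trans ((congrArg (DTen.LTen₂ A).map (by
      ext <;> simp)).trans ((DTen.LTen₂ A).map_comp _ _))
  simp only [hRHom, Equiv.trans_apply, h1]
  exact (reassoc_of% ((theta i).inv.naturality g).symm) _

theorem isIso_H_RHomMap_iff (i : ℤ) {Y Y' : Dual.D A} (g : Y ⟶ Y') (Z : Dual.D A) :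
    IsIso ((hf A i).map (DTen.RHomMap g Z)) ↔
      Function.Bijective (fun v : Y'⟦-i⟧ ⟶ Z => g⟦-i⟧' ≫ v) := by
  rw [isIso_H_iff]
  have h : (fun v : Y'⟦-i⟧ ⟶ Z => g⟦-i⟧' ≫ v) ∘ hRHom i Y' Z =
      hRHom i Y Z ∘ fun u => u ≫ DTen.RHomMap g Z := by
    funext u; exact (hRHom_map i g Z u).symm
  rw [← (hRHom i Y Z).bijective.of_comp_iff', ← h]
  exact Function.Bijective.of_comp_iff _ (hRHom i Y' Z).bijective

theorem isZero_H_RHom (i : ℤ) (Y Z : Dual.D A) (h : ∀ v : Y⟦-i⟧ ⟶ Z, v = 0) :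
    IsZero ((hf A i).obj ((DTen.RHomR A Y).obj Z)) := by
  have : Subsingleton (oU A i ⟶ (DTen.RHomR A Y).obj Z) :=
    ⟨fun a b => (hRHom i Y Z).injective ((h _).trans (h _).symm)⟩
  have : Subsingleton ((hf A i).obj ((DTen.RHomR A Y).obj Z) : Type u) := (hEquiv i _).symm.subsingleton
  exact ModuleCat.isZero_of_subsingleton _

end Groth.Agent.DTenPC
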