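import Groth.Agent.DTenLib.Monoidal
import Groth.Prelude.Def_DTen3

/-!
Naturality of `evalHom` in its first argument.
-/

set_option autoImplicit false
set_option linter.style.haveILetI false
universe u

namespace Groth.Agent.DTenPC

open CategoryTheory Limits MonoidalCategory

attribute [local instance] HasDerivedCategory.standard

variable {A : Type u} [CommRing A] [DTen.HasLTen A] [DTen.HasLTen₃ A] [DTen.IsSymMonoidal A]
  [DTen.HasRHom A]

theorem evalHom_natural {P K : Dual.D A} (α : P ⟶ K) (L M : Dual.D A) :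
    ((DTen.LTen₂ A).map (Prod.mkHom (𝟙 ((DTen.RHomR A L).obj M)) (α))) ≫ DTen.evalHom K L M =
      DTen.evalHom P L M ≫ DTen.RHomMap (DTen.RHomMap α L) M := by
  apply (DTen.rhomHomEquiv _ ((DTen.RHomR A K).obj L) M).symm.injective
  rw [Adjunction.homEquiv_counit, Adjunction.homEquiv_counit, Functor.map_comp, Functor.map_comp,
    Category.assoc, Category.assoc]
  change ((DTen.LTen₂ A).map (Prod.mkHom (((DTen.LTen₂ A).map (Prod.mkHom (𝟙 ((DTen.RHomR A L).obj M)) (α)))) (𝟙 ((DTen.RHomR A K).obj L)))) ≫ ((DTen.LTen₂ A).map (Prod.mkHom (DTen.evalHom K L M) (𝟙 ((DTen.RHomR A K).obj L)))) ≫ DTen.ev ((DTen.RHomR A K).obj L) M =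
    ((DTen.LTen₂ A).map (Prod.mkHom (DTen.evalHom P L M) (𝟙 ((DTen.RHomR A K).obj L)))) ≫ ((DTen.LTen₂ A).map (Prod.mkHom (DTen.RHomMap (DTen.RHomMap α L) M) (𝟙 ((DTen.RHomR A K).obj L)))) ≫ DTen.ev ((DTen.RHomR A K).obj L) M
  rw [DTen.evalHom_fac, DTen.RHom_map_ev, ← Category.assoc ((DTen.LTen₂ A).map (Prod.mkHom (DTen.evalHom P L M) (𝟙 ((DTen.RHomR A K).obj L)))),
    DTenLib.map₂_comp, Category.comp_id, Category.id_comp]
  have hsplit : (DTen.LTen₂ A).map (Prod.mkHom (DTen.evalHom P L M) (DTen.RHomMap α L)) =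
      (DTen.LTen₂ A).map (Prod.mkHom (𝟙 ((DTen.LTen₂ A).obj (((DTen.RHomR A L).obj M), P))) (DTen.RHomMap α L)) ≫
        (DTen.LTen₂ A).map (Prod.mkHom (DTen.evalHom P L M) (𝟙 ((DTen.RHomR A P).obj L))) := by
    rw [DTenLib.map₂_comp, Category.comp_id, Category.id_comp]
  rw [hsplit, Category.assoc, DTen.evalHom_fac]
  have hid : ∀ a b : Dual.D A, ((DTen.LTen₂ A).map (Prod.mkHom (𝟙 a) (𝟙 b))) = 𝟙 ((DTen.LTen₂ A).obj (a, b)) :=
    fun a b => (DTen.LTen₂ A).map_id (a, b)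
  simp only [DTen.evalHomAux]
  have hA := DTenLib.associator_natural (𝟙 ((DTen.RHomR A L).obj M)) α (𝟙 ((DTen.RHomR A K).obj L))
  have hB := DTenLib.associator_natural (𝟙 ((DTen.RHomR A L).obj M)) (𝟙 P) (DTen.RHomMap α L)
  rw [hid ((DTen.RHomR A L).obj M) P] at hB
  rw [reassoc_of% hA, reassoc_of% hB, ← Category.assoc ((DTen.LTen₂ A).map (Prod.mkHom (𝟙 ((DTen.RHomR A L).obj M)) (((DTen.LTen₂ A).map (Prod.mkHom (α) (𝟙 ((DTen.RHomR A K).obj L))))))), DTenLib.map₂_comp,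
    ← Category.assoc ((DTen.LTen₂ A).map (Prod.mkHom (𝟙 ((DTen.RHomR A L).obj M)) (((DTen.LTen₂ A).map (Prod.mkHom (𝟙 P) ((DTen.RHomMap α L))))))), DTenLib.map₂_comp]
  congr 4
  have h1 := (DTen.symm A).naturality (Prod.mkHom (𝟙 ((DTen.RHomR A K).obj L)) α :
    (((DTen.RHomR A K).obj L), P) ⟶ (((DTen.RHomR A K).obj L), K))
  have h2 := (DTen.symm A).naturality (Prod.mkHom (DTen.RHomMap α L) (𝟙 P) :
    (((DTen.RHomR A K).obj L), P) ⟶ (((DTen.RHomR A P).obj L), P))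
  dsimp at h1 h2
  rw [reassoc_of% h1, reassoc_of% h2, DTen.RHom_map_ev]

end Groth.Agent.DTenPC
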