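import Groth.Agent.DTenPC.Shift
import Groth.Agent.DTenPC.Natural
import Groth.Agent.DTenLib.Perfect
import Groth.Agent.DRingKP.Res
import Groth.Agent.DRingKP.InjAmp
import Groth.Agent.PerfLocal.Perfect
import Mathlib.Algebra.Homology.DerivedCategory.HomologySequence

/-!
`evalHom` is an isomorphism for pseudo-coherent first argument.
-/

set_option autoImplicit false
set_option backward.isDefEq.respectTransparency false
set_option backward.isDefEq.respectTransparency.types false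
set_option linter.style.haveILetI false
universe u

namespace Groth.Agent.DTenPC

open CategoryTheory Limits Pretriangulated DerivedCategory

attribute [local instance] HasDerivedCategory.standard

variable {A : Type u} [CommRing A]

/-- maps from `Y ≥ n` into an object of injective amplitude `≤ b < n` vanish -/
theorem eq_zero_of_amp {M : Dual.D A} {a b : ℤ} (hM : DRing.HasInjAmplitudeIn A a b M)
    {Y : Dual.D A} {n : ℤ} (hY : Y.IsGE n) (hbn : b < n) (v : Y ⟶ M) : v = 0 := by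
  obtain ⟨E, hE, hinj, ⟨e⟩⟩ := hM
  obtain ⟨Y', _, ⟨eY⟩⟩ := exists_iso_Q_obj_of_isGE Y n
  haveI : E.IsStrictlyGE a := PerfLocal.isStrictlyGE_of_vanishesOutside hE
  haveI : E.IsKInjective :=
    haveI : ∀ i, Injective (E.X i) := fun i =>
      haveI : Module.Injective A (E.X i) := hinj i
      Module.injective_object_of_injective_module (R := A) (M := E.X i)
    CochainComplex.isKInjective_of_injective E a
  obtain ⟨f, hf⟩ := DRingKP.exists_lift_inj (eY.inv ≫ v ≫ e.inv : DRing.toD Y' ⟶ DRing.toD E)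
  have h0 : f = 0 := by
    ext i : 1
    by_cases h : i < n
    · exact (CochainComplex.isZero_of_isStrictlyGE Y' n i h).eq_of_src _ _
    · exact (hE i (Or.inr (lt_of_lt_of_le hbn (not_lt.mp h)))).eq_of_tgt _ _
  rw [h0, Functor.map_zero] at hf
  rw [← cancel_epi eY.inv, ← cancel_mono e.inv, comp_zero, zero_comp, Category.assoc]
  exact hf.symm

theorem isGE_shift' (X : Dual.D A) (n k n' : ℤ) (h : k + n' = n) (hX : X.IsGE n) :
    (X⟦k⟧).IsGE n' :=
  haveI := hX
  TStructure.t.isGE_shift X n k n' h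

theorem isLE_shift' (X : Dual.D A) (n k n' : ℤ) (h : k + n' = n) (hX : X.IsLE n) :
    (X⟦k⟧).IsLE n' :=
  haveI := hX
  TStructure.t.isLE_shift X n k n' h

theorem hom_eq_zero {X Y : Dual.D A} {m n : ℤ} (hX : X.IsLE m) (hY : Y.IsGE n) (h : m < n)
    (v : X ⟶ Y) : v = 0 :=
  haveI := hX
  haveI := hY
  TStructure.t.zero v m n h

theorem isIso_H_shift {X Y : Dual.D A} (g : X ⟶ Y) (k j l : ℤ) (h : k + j = l)
    (hg : IsIso ((hf A l).map g)) : IsIso ((hf A j).map (g⟦k⟧')) :=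
  haveI : IsIso (((DerivedCategory.homologyFunctor (ModuleCat.{u} A) 0).shift l).map g) := hg
  (NatIso.isIso_map_iff ((DerivedCategory.homologyFunctor (ModuleCat.{u} A) 0).shiftIso k j l h) g).mpr
    inferInstance

theorem cone_zero {T : Triangle (Dual.D A)} (hT : T ∈ distTriang (Dual.D A)) (i : ℤ)
    (h : IsIso ((hf A i).map T.mor₁)) (h' : IsIso ((hf A (i + 1)).map T.mor₁)) :
    IsZero ((hf A i).obj T.obj₃) :=
  haveI : Epi ((hf A i).map T.mor₁) := inferInstance
  haveI : Mono ((hf A (i + 1)).map T.mor₁) := inferInstance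
  (HomologySequence.exact₃ T hT i (i + 1) rfl).isZero_of_both_zeros
    (by
      change (hf A i).map T.mor₂ = 0
      rw [← cancel_epi ((hf A i).map T.mor₁), comp_zero, ← Functor.map_comp,
        comp_distTriang_mor_zero₁₂ T hT, Functor.map_zero])
    (by
      change HomologySequence.δ T i (i + 1) rfl = 0
      rw [← cancel_mono ((hf A (i + 1)).map T.mor₁), zero_comp]
      exact HomologySequence.δ_comp T hT i (i + 1) rfl)

theorem cone_isGE {T : Triangle (Dual.D A)} (hT : T ∈ distTriang (Dual.D A)) (N : ℤ)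
    (h : ∀ j < N, IsIso ((hf A j).map T.mor₁)) : T.obj₃.IsGE (N - 1) := by
  rw [isGE_iff]
  exact fun i hi => cone_zero hT i (h i (by lia)) (h (i + 1) (by lia))

theorem cone_isLE {T : Triangle (Dual.D A)} (hT : T ∈ distTriang (Dual.D A)) (m : ℤ)
    (h : ∀ j, m < j → IsIso ((hf A j).map T.mor₁)) : T.obj₃.IsLE m := by
  rw [isLE_iff]
  exact fun i hi => cone_zero hT i (h i hi) (h (i + 1) (by lia))

theorem bijective_precomp {T : Triangle (Dual.D A)} (hT : T ∈ distTriang (Dual.D A)) {Z : Dual.D A}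
    (h₁ : ∀ v : T.obj₃ ⟶ Z, v = 0) (h₂ : ∀ v : T.obj₃⟦(-1 : ℤ)⟧ ⟶ Z, v = 0) :
    Function.Bijective (fun v : T.obj₂ ⟶ Z => T.mor₁ ≫ v) := by
  constructor
  · intro v w hvw
    obtain ⟨c, hc⟩ := Triangle.yoneda_exact₂ T hT (v - w)
      (by rw [Preadditive.comp_sub, sub_eq_zero]; exact hvw)
    rw [← sub_eq_zero, hc, h₁ c, comp_zero]
  · intro w
    obtain ⟨v, hv⟩ := Triangle.yoneda_exact₂ T.invRotate (inv_rot_of_distTriang _ hT) w (h₂ _)
    exact ⟨v, hv.symm⟩

theorem bijective_postcomp {T : Triangle (Dual.D A)} (hT : T ∈ distTriang (Dual.D A)) {X : Dual.D A}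
    (h₁ : ∀ v : X ⟶ T.obj₃, v = 0) (h₂ : ∀ v : X ⟶ T.obj₃⟦(-1 : ℤ)⟧, v = 0) :
    Function.Bijective (fun v : X ⟶ T.obj₁ => v ≫ T.mor₁) := by
  constructor
  · intro v w hvw
    obtain ⟨c, hc⟩ := Triangle.coyoneda_exact₂ T.invRotate (inv_rot_of_distTriang _ hT) (v - w)
      (by
        change (v - w) ≫ T.mor₁ = 0
        rw [Preadditive.sub_comp, sub_eq_zero]; exact hvw)
    rw [← sub_eq_zero, hc]
    exact (congrArg (· ≫ _) (h₂ c)).trans zero_comp
  · intro w
    obtain ⟨v, hv⟩ := Triangle.coyoneda_exact₂ T hT w (h₁ _)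
    exact ⟨v, hv.symm⟩

variable [DTen.HasLTen A] [DTen.HasRHom A]

/-- `RHom(K, Z) → RHom(P, Z)` in low degrees -/
theorem isIso_H_RHomMap_low {P K : Dual.D A} (α : P ⟶ K) (m : ℤ)
    (hα : ∀ j, m < j → IsIso ((hf A j).map α)) {Z : Dual.D A} {n : ℤ} (hZ : Z.IsGE n)
    (i : ℤ) (hi : i < n - m - 1) : IsIso ((hf A i).map (DTen.RHomMap α Z)) := by
  rw [isIso_H_RHomMap_iff]
  obtain ⟨C, q, r, hT⟩ := distinguished_cocone_triangle (α⟦-i⟧')
  have hC : C.IsLE (m + i) := cone_isLE hT (m + i) fun j hj =>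
    isIso_H_shift α (-i) j (-i + j) rfl (hα _ (by lia))
  exact bijective_precomp hT (fun v => hom_eq_zero hC hZ (by lia) v)
    (fun v => hom_eq_zero (isLE_shift' C (m + i) (-1) (m + i + 1) (by lia) hC) hZ (by lia) v)

/-- `RHom(Y', M) → RHom(Y, M)` in high degrees -/
theorem isIso_H_RHomMap_high {Y Y' : Dual.D A} (β : Y ⟶ Y') (N : ℤ)
    (hβ : ∀ j < N, IsIso ((hf A j).map β)) {M : Dual.D A} {a b : ℤ}
    (hM : DRing.HasInjAmplitudeIn A a b M) (i : ℤ) (hi : b - N + 1 < i) :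
    IsIso ((hf A i).map (DTen.RHomMap β M)) := by
  rw [isIso_H_RHomMap_iff]
  obtain ⟨C, q, r, hT⟩ := distinguished_cocone_triangle (β⟦-i⟧')
  have hC : C.IsGE (N + i - 1) := cone_isGE hT (N + i) fun j hj =>
    isIso_H_shift β (-i) j (-i + j) rfl (hβ _ (by lia))
  exact bijective_precomp hT (fun v => eq_zero_of_amp hM hC (by lia) v)
    (fun v => eq_zero_of_amp hM (isGE_shift' C (N + i - 1) (-1) (N + i) (by lia) hC) (by lia) v)

theorem isLE_RHom {L M : Dual.D A} {a b n : ℤ} (hL : L.IsGE n)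
    (hM : DRing.HasInjAmplitudeIn A a b M) : ((DTen.RHomR A L).obj M).IsLE (b - n) := by
  rw [isLE_iff]
  exact fun i hi => isZero_H_RHom i L M fun v =>
    eq_zero_of_amp hM (isGE_shift' L n (-i) (n + i) (by lia) hL) (by lia) v

/-- `X ⊗ P → X ⊗ K` in high degrees -/
theorem isIso_H_whisker {P K : Dual.D A} (α : P ⟶ K) (m : ℤ)
    (hα : ∀ j, m < j → IsIso ((hf A j).map α)) {X : Dual.D A} {c : ℤ} (hX : X.IsLE c)
    (i : ℤ) (hi : c + m + 4 < i) :
    IsIso ((hf A i).map ((DTen.LTen₂ A).map (Prod.mkHom (𝟙 X) α))) := by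
  set h := (DTen.LTen₂ A).map (Prod.mkHom (𝟙 X) α)
  set N := c + m + 3
  have hb : ∀ Z : Dual.D A, Z.IsGE N →
      Function.Bijective (fun v : (DTen.LTen₂ A).obj (X, K) ⟶ Z => h ≫ v) := by
    intro Z hZ
    obtain ⟨C, q, r, hT⟩ := distinguished_cocone_triangle (DTen.RHomMap α Z)
    have hC : C.IsGE (N - m - 2) :=
      (show N - m - 2 = N - m - 1 - 1 by lia) ▸
        cone_isGE hT (N - m - 1) fun j hj => isIso_H_RHomMap_low α m hα hZ j hj
    have hp : Function.Bijective (fun u : X ⟶ (DTen.RHomR A K).obj Z => u ≫ DTen.RHomMap α Z) :=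
      bijective_postcomp hT (fun v => hom_eq_zero hX hC (by lia) v)
        (fun v => hom_eq_zero hX (isGE_shift' C (N - m - 2) (-1) (N - m - 1) (by lia) hC) (by lia) v)
    have e : (fun v : (DTen.LTen₂ A).obj (X, K) ⟶ Z => h ≫ v) =
        (DTen.rhomHomEquiv X P Z).symm ∘ (fun u => u ≫ DTen.RHomMap α Z) ∘
          DTen.rhomHomEquiv X K Z := by
      funext v
      obtain ⟨u, rfl⟩ := (DTen.rhomHomEquiv X K Z).symm.surjective v
      simp only [Function.comp_apply, Equiv.apply_symm_apply]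
      refine (congrArg (fun t => h ≫ t) ((DTen.rhomAdj A K).homEquiv_counit _ _ u)).trans
        (Eq.trans ?_ ((DTen.rhomAdj A P).homEquiv_counit _ _ (u ≫ DTen.RHomMap α Z)).symm)
      rw [Functor.map_comp, Category.assoc]
      refine Eq.trans ?_ (congrArg _ (DTen.RHom_map_ev α Z).symm)
      rw [← Category.assoc, ← Category.assoc]
      congr 1
      exact ((DTen.LTen₂ A).map_comp _ _).symm.trans ((congrArg (DTen.LTen₂ A).map (by
        ext <;> simp)).trans ((DTen.LTen₂ A).map_comp _ _))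
    rw [e]
    exact (DTen.rhomHomEquiv X P Z).symm.bijective.comp
      (hp.comp (DTen.rhomHomEquiv X K Z).bijective)
  obtain ⟨C, q, r, hT⟩ := distinguished_cocone_triangle h
  have hC : C.IsLE (N - 1) := by
    refine (TStructure.t.isLE_iff_orthogonal (N - 1) N (by lia) C).mpr fun Z v hZ => ?_
    have hqv : q ≫ v = 0 := (hb Z hZ).1 (by
      change h ≫ q ≫ v = h ≫ 0
      rw [← Category.assoc, show h ≫ q = 0 from comp_distTriang_mor_zero₁₂ _ hT, zero_comp, comp_zero])
    obtain ⟨c', hc⟩ := Triangle.yoneda_exact₃ _ hT v hqv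
    have hZ' : (Z⟦(-1 : ℤ)⟧).IsGE N :=
      haveI := isGE_shift' Z N (-1) (N + 1) (by lia) hZ
      TStructure.t.isGE_of_ge (Z⟦(-1 : ℤ)⟧) N (N + 1) (by lia)
    let ad := (shiftEquiv' (Dual.D A) (1 : ℤ) (-1) (by lia)).toAdjunction
    obtain ⟨u, hu⟩ := (hb _ hZ').2 (ad.homEquiv _ _ c')
    have : c' = h⟦(1 : ℤ)⟧' ≫ (ad.homEquiv _ _).symm u := by
      apply (ad.homEquiv _ _).injective
      refine Eq.trans ?_ (ad.homEquiv_naturality_left h ((ad.homEquiv _ _).symm u)).symm
      rw [Equiv.apply_symm_apply]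
      exact hu.symm
    rw [hc, this]
    exact (Category.assoc _ _ _).symm.trans
      ((congrArg (· ≫ _) (comp_distTriang_mor_zero₃₁ _ hT)).trans zero_comp)
  have z : ∀ j, N - 1 < j → IsZero ((hf A j).obj C) := fun j hj => by
    rw [isLE_iff] at hC
    exact hC j hj
  have : Mono ((hf A i).map h) :=
    (HomologySequence.exact₁ _ hT (i - 1) i (by lia)).mono_g ((z _ (by lia)).eq_of_src _ _)
  have : Epi ((hf A i).map h) :=
    (HomologySequence.exact₂ _ hT i).epi_f ((z _ (by lia)).eq_of_tgt _ _)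
  exact isIso_of_mono_of_epi _

omit [DTen.HasLTen A] [DTen.HasRHom A] in
theorem isIso_of_H {X Y : Dual.D A} (f : X ⟶ Y) (h : ∀ i, IsIso ((hf A i).map f)) : IsIso f :=
  (DerivedCategory.isIso_iff (ModuleCat.{u} A) f).mpr h

variable [DTen.HasLTen₃ A] [DTen.IsSymMonoidal A]

theorem isIso_evalHom (K L M : Dual.D A) (hK : DRing.IsPseudoCoherent' A K) (n : ℤ)
    (hL : L.IsGE n) (hM : DRing.HasFiniteInjDim A M) : IsIso (DTen.evalHom K L M) := by
  obtain ⟨a, b, hM⟩ := hM
  refine isIso_of_H _ fun i => ?_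
  set m := i - (b - n) - 5
  obtain ⟨E, a', b', α, hE, hEf, hα, -⟩ := DRingKP.pc_of_pc' hK m
  have hP : DRing.IsPerfect A (DRing.toD E) :=
    ⟨E, a', b', hE, DRingKP.termwiseFiniteProjective_of_free hEf, ⟨Iso.refl _⟩⟩
  haveI := DTenLib.isIso_evalHom (DRing.toD E) L M hP
  haveI := isIso_H_whisker α m hα (isLE_RHom hL hM) i (by lia)
  haveI := isIso_H_RHomMap_high (DTen.RHomMap α L) (n - m - 1)
    (fun j hj => isIso_H_RHomMap_low α m hα hL j hj) hM i (by lia)
  have e := congrArg (hf A i).map (evalHom_natural α L M)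
  rw [Functor.map_comp, Functor.map_comp] at e
  have : IsIso ((hf A i).map ((DTen.LTen₂ A).map (Prod.mkHom (𝟙 ((DTen.RHomR A L).obj M)) α)) ≫
      (hf A i).map (DTen.evalHom K L M)) := by
    rw [e]; infer_instance
  exact IsIso.of_isIso_comp_left
    ((hf A i).map ((DTen.LTen₂ A).map (Prod.mkHom (𝟙 ((DTen.RHomR A L).obj M)) α))) _

end Groth.Agent.DTenPC
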