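import Groth.Agent.DTenPC.Eval
import Groth.Agent.CohDerRoofs.Basic
import Groth.Agent.DRingKP.KFlat
import Groth.Agent.DTenLib.DualCx
import Mathlib.Algebra.Homology.DerivedCategory.Fractions

/-!
`evalTen` is an isomorphism for finite tor dimension, pseudo-coherent source and bounded below target.
-/

set_option autoImplicit false
set_option backward.isDefEq.respectTransparency false
set_option backward.isDefEq.respectTransparency.types false
set_option linter.style.haveILetI false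
universe u

namespace Groth.Agent.DTenPC

open CategoryTheory Limits MonoidalCategory HomologicalComplex DerivedCategory

attribute [local instance] HasDerivedCategory.standard

variable {A : Type u} [CommRing A]

/-- tensoring with a complex bounded below by `a` only sees the degrees `≤ k - a` in degree `k` -/
lemma isIso_whiskerLeft_f {F : DRing.Cx A} {a : ℤ} (hF : ∀ p < a, IsZero (F.X p))
    {X Y : DRing.Cx A} (f : X ⟶ Y) (k : ℤ) (hf : ∀ q, q ≤ k - a → IsIso (f.f q)) :
    IsIso ((F ◁ f).f k) := by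
  classical
  refine ⟨mapBifunctorDesc (fun p q h =>
    if hq : q ≤ k - a then
      (haveI := hf q hq; (F.X p ◁ inv (f.f q))) ≫ ιTensorObj F X p q k h
    else 0), ?_, ?_⟩
  · refine mapBifunctor.hom_ext fun p q h => ?_
    erw [DTenLib.PreDual.ι_whiskerLeft_f_assoc F f p q k h, Category.comp_id, ι_mapBifunctorDesc]
    by_cases hq : q ≤ k - a
    · haveI := hf q hq
      rw [dif_pos hq, ← Category.assoc, ← MonoidalCategory.whiskerLeft_comp, IsIso.hom_inv_id,
        MonoidalCategory.whiskerLeft_id, Category.id_comp]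
    · exact ((tensorRight (X.X q)).map_isZero (hF p (by change p + q = k at h; lia))).eq_of_src _ _
  · refine mapBifunctor.hom_ext fun p q h => ?_
    erw [ι_mapBifunctorDesc_assoc, Category.comp_id]
    by_cases hq : q ≤ k - a
    · haveI := hf q hq
      rw [dif_pos hq, Category.assoc]
      erw [DTenLib.PreDual.ι_whiskerLeft_f F f p q k h]
      rw [← Category.assoc, ← MonoidalCategory.whiskerLeft_comp, IsIso.inv_hom_id,
        MonoidalCategory.whiskerLeft_id]
      exact Category.id_comp _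
    · exact ((tensorRight (Y.X q)).map_isZero (hF p (by change p + q = k at h; lia))).eq_of_src _ _

/-- tensoring with a bounded flat complex preserves isomorphisms in low degrees (complexes) -/
lemma isIso_homologyMap_whisker {F : DRing.Cx A} {a : ℤ} (hF : ∀ p < a, IsZero (F.X p))
    (hK : DRing.IsKFlat A F) {X Y : DRing.Cx A} (g : X ⟶ Y) (N : ℤ)
    (hg : ∀ j < N, QuasiIsoAt g j) (i : ℤ) (hi : i < N + a - 3) :
    IsIso (homologyMap (F ◁ g) i) := by
  have : QuasiIso (CochainComplex.truncLEMap g (N - 1)) :=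
    (CochainComplex.quasiIso_truncLEMap_iff g (N - 1)).mpr fun j hj => hg j (by lia)
  have := DTenLib.isKFlat_comm hK (CochainComplex.truncLEMap g (N - 1)) this
  have hι : ∀ Z : DRing.Cx A, IsIso (homologyMap (F ◁ Z.ιTruncLE (N - 1)) i) := fun Z =>
    DRingKP.isIso_homologyMap_of_isIso_f _ i fun j _ hj =>
      isIso_whiskerLeft_f hF _ j fun q hq => CohDerRoofs.isIso_ιTruncLE_f Z (N - 1) q (by lia)
  have e := congrArg (fun t => homologyMap (F ◁ t) i) (CochainComplex.ιTruncLE_naturality g (N - 1))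
  simp only [MonoidalCategory.whiskerLeft_comp, homologyMap_comp] at e
  have : IsIso (homologyMap (F ◁ CochainComplex.truncLEMap g (N - 1)) i) := inferInstance
  have := hι X
  have := hι Y
  have : IsIso (homologyMap (F ◁ X.ιTruncLE (N - 1)) i ≫ homologyMap (F ◁ g) i) := by
    rw [← e]; infer_instance
  exact IsIso.of_isIso_comp_left (homologyMap (F ◁ X.ιTruncLE (N - 1)) i) _

lemma isIso_hf_Q_iff {X Y : DRing.Cx A} (g : X ⟶ Y) (i : ℤ) :
    IsIso ((hf A i).map (DerivedCategory.Q.map g)) ↔ IsIso (homologyMap g i) :=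
  NatIso.isIso_map_iff (DerivedCategory.homologyFunctorFactors (ModuleCat.{u} A) i) g

variable [DTen.HasLTen A]

lemma isIso_H_LTen_Q {F : DRing.Cx A} {a : ℤ} (hF : ∀ p < a, IsZero (F.X p))
    (hK : DRing.IsKFlat A F) {X Y : DRing.Cx A} (g : X ⟶ Y) (N : ℤ)
    (hg : ∀ j < N, IsIso ((hf A j).map (DerivedCategory.Q.map g))) (i : ℤ) (hi : i < N + a - 3) :
    IsIso ((hf A i).map ((DTen.LTen₂ A).map
      (Prod.mkHom (𝟙 (DRing.toD F)) (DerivedCategory.Q.map g)))) := by
  have e := (DTen.ε A).naturality (Prod.mkHom (𝟙 F) g)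
  dsimp at e
  rw [CategoryTheory.Functor.map_id, id_whiskerRight, Category.id_comp] at e
  have := DTenLib.isIso_ε_left hK X
  have := DTenLib.isIso_ε_left hK Y
  haveI : IsIso ((hf A i).map (DerivedCategory.Q.map (F ◁ g))) :=
    (isIso_hf_Q_iff _ i).mpr (isIso_homologyMap_whisker hF hK g N
      (fun j hj => (quasiIsoAt_iff_isIso_homologyMap g j).mpr ((isIso_hf_Q_iff g j).mp (hg j hj))) i hi)
  have h : IsIso ((hf A i).map ((DTen.LTen₂ A).map (Prod.mkHom (𝟙 (DRing.toD F)) (DerivedCategory.Q.map g))) ≫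
      (hf A i).map ((DTen.ε A).app (F, Y))) := by
    rw [← Functor.map_comp]
    exact (congrArg (fun t => IsIso ((hf A i).map t)) e).mpr (by
      rw [Functor.map_comp]; infer_instance)
  exact IsIso.of_isIso_comp_right _ ((hf A i).map ((DTen.ε A).app (F, Y)))

/-- tensoring with an object of tor amplitude `≥ a` preserves isomorphisms in low degrees -/
theorem isIso_H_LTen_low {U : Dual.D A} {a b : ℤ} (hU : DRing.HasTorAmplitudeIn A a b U)
    {X Y : Dual.D A} (f : X ⟶ Y) (N : ℤ) (hf' : ∀ j < N, IsIso ((hf A j).map f))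
    (i : ℤ) (hi : i < N + a - 3) :
    IsIso ((hf A i).map ((DTen.LTen₂ A).map (Prod.mkHom (𝟙 U) f))) := by
  obtain ⟨F, hF, hflat, ⟨e⟩⟩ := hU
  let eX := DerivedCategory.Q.objObjPreimageIso X
  let eY := DerivedCategory.Q.objObjPreimageIso Y
  obtain ⟨Z, g, s, hs, hfac⟩ := DerivedCategory.left_fac (eX.hom ≫ f ≫ eY.inv)
  have hg : DerivedCategory.Q.map g = eX.hom ≫ f ≫ eY.inv ≫ DerivedCategory.Q.map s := by
    rw [← cancel_mono (inv (DerivedCategory.Q.map s)), ← hfac]
    simp
  have := isIso_H_LTen_Q (A := A) (F := F) (fun p hp => hF p (Or.inl hp))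
    (DRingKP.isKFlat_of_bounded (fun p hp => hF p (Or.inr hp)) hflat) g N
    (fun j hj => by
      have := hf' j hj
      rw [hg, Functor.map_comp, Functor.map_comp, Functor.map_comp]
      infer_instance) i hi
  let eα : ((U, X) : Dual.D A × Dual.D A) ≅ (DRing.toD F, DerivedCategory.Q.obj _) := Iso.prod e.symm eX.symm
  let eβ : (DRing.toD F, DerivedCategory.Q.obj Z) ≅ ((U, Y) : Dual.D A × Dual.D A) :=
    Iso.prod e ((asIso (DerivedCategory.Q.map s)).symm ≪≫ eY)
  have key : (Prod.mkHom (𝟙 U) f : (U, X) ⟶ (U, Y)) =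
      eα.hom ≫ Prod.mkHom (𝟙 (DRing.toD F)) (DerivedCategory.Q.map g) ≫ eβ.hom := by
    refine Prod.ext ?_ ?_
    · simp [eα, eβ]
    · simp [eα, eβ, hg]
  rw [key, Functor.map_comp, Functor.map_comp, Functor.map_comp, Functor.map_comp]
  infer_instance

theorem isGE_LTen {U : Dual.D A} {a b : ℤ} (hU : DRing.HasTorAmplitudeIn A a b U)
    {X : Dual.D A} {n : ℤ} (hX : X.IsGE n) :
    ((DTen.LTen₂ A).obj (U, X)).IsGE (n + a - 3) := by
  rw [isGE_iff] at hX ⊢
  intro i hi
  haveI := isIso_H_LTen_low hU (0 : X ⟶ X) n (fun j hj =>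
    ⟨0, (hX j hj).eq_of_src _ _, (hX j hj).eq_of_tgt _ _⟩) i hi
  obtain ⟨F, hF, hflat, ⟨e⟩⟩ := hU
  let eX := DerivedCategory.Q.objObjPreimageIso X
  have hK := DRingKP.isKFlat_of_bounded (fun p hp => hF p (Or.inr hp)) hflat
  have h0 : (DTen.LTen₂ A).map (Prod.mkHom (𝟙 (DRing.toD F))
      (DerivedCategory.Q.map (0 : DerivedCategory.Q.objPreimage X ⟶ DerivedCategory.Q.objPreimage X))) = 0 := by
    have hz : F ◁ (0 : DerivedCategory.Q.objPreimage X ⟶ DerivedCategory.Q.objPreimage X) = 0 := by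
      refine HomologicalComplex.hom_ext _ _ fun k => mapBifunctor.hom_ext fun p q h => ?_
      erw [DTenLib.PreDual.ι_whiskerLeft_f F (0 : DerivedCategory.Q.objPreimage X ⟶ DerivedCategory.Q.objPreimage X) p q k h]
      simp
    have e := (DTen.ε A).naturality (Prod.mkHom (𝟙 F)
      (0 : DerivedCategory.Q.objPreimage X ⟶ DerivedCategory.Q.objPreimage X))
    dsimp at e
    rw [CategoryTheory.Functor.map_id, id_whiskerRight, Category.id_comp, hz] at e
    simp only [Functor.map_zero, comp_zero] at e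
    have := DTenLib.isIso_ε_left hK (DerivedCategory.Q.objPreimage X)
    rw [← cancel_mono ((DTen.ε A).app (F, DerivedCategory.Q.objPreimage X)), zero_comp, Functor.map_zero]
    exact e
  have h1 : (DTen.LTen₂ A).map (Prod.mkHom (𝟙 U) (0 : X ⟶ X)) = 0 := by
    let eα : ((U, X) : Dual.D A × Dual.D A) ≅ (DRing.toD F, DerivedCategory.Q.obj _) := Iso.prod e.symm eX.symm
    rw [show (Prod.mkHom (𝟙 U) (0 : X ⟶ X) : (U, X) ⟶ (U, X)) =
        eα.hom ≫ Prod.mkHom (𝟙 (DRing.toD F)) (DerivedCategory.Q.map 0) ≫ eα.inv from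
      Prod.ext (by simp [eα]) (by simp [eα, Functor.map_zero]),
      Functor.map_comp, Functor.map_comp, h0, zero_comp, comp_zero]
  have h2 : IsIso ((hf A i).map (0 : (DTen.LTen₂ A).obj (U, X) ⟶ (DTen.LTen₂ A).obj (U, X))) :=
    h1 ▸ inferInstance
  rw [Functor.map_zero] at h2
  exact (IsZero.iff_id_eq_zero _).mpr
    ((@IsIso.hom_inv_id _ _ _ _ _ h2).symm.trans zero_comp)

variable [DTen.HasLTen₃ A] [DTen.IsSymMonoidal A] [DTen.HasRHom A]

theorem evalTen_natural {P K : Dual.D A} (α : P ⟶ K) (U L : Dual.D A) :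
    (DTen.LTen₂ A).map (Prod.mkHom (𝟙 U) (DTen.RHomMap α L)) ≫ DTen.evalTen U L P =
      DTen.evalTen U L K ≫ DTen.RHomMap α ((DTen.LTen₂ A).obj (U, L)) := by
  apply (DTen.rhomHomEquiv _ P _).symm.injective
  erw [Adjunction.homEquiv_counit, Adjunction.homEquiv_counit]
  rw [Functor.map_comp, Functor.map_comp, Category.assoc, Category.assoc]
  change (DTen.LTen₂ A).map (Prod.mkHom ((DTen.LTen₂ A).map (Prod.mkHom (𝟙 U) (DTen.RHomMap α L))) (𝟙 P)) ≫
      (DTen.LTen₂ A).map (Prod.mkHom (DTen.evalTen U L P) (𝟙 P)) ≫ DTen.ev P _ =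
    (DTen.LTen₂ A).map (Prod.mkHom (DTen.evalTen U L K) (𝟙 P)) ≫
      (DTen.LTen₂ A).map (Prod.mkHom (DTen.RHomMap α ((DTen.LTen₂ A).obj (U, L))) (𝟙 P)) ≫ DTen.ev P _
  rw [DTen.evalTen_fac, DTen.RHom_map_ev,
    ← Category.assoc ((DTen.LTen₂ A).map (Prod.mkHom (DTen.evalTen U L K) (𝟙 P))),
    DTenLib.map₂_comp, Category.comp_id, Category.id_comp]
  have hsplit : (DTen.LTen₂ A).map (Prod.mkHom (DTen.evalTen U L K) α) =
      (DTen.LTen₂ A).map (Prod.mkHom (𝟙 ((DTen.LTen₂ A).obj (U, (DTen.RHomR A K).obj L))) α) ≫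
        (DTen.LTen₂ A).map (Prod.mkHom (DTen.evalTen U L K) (𝟙 K)) := by
    rw [DTenLib.map₂_comp, Category.comp_id, Category.id_comp]
  rw [hsplit, Category.assoc, DTen.evalTen_fac]
  simp only [DTen.evalTenAux]
  have hA := DTenLib.associator_natural (𝟙 U) (DTen.RHomMap α L) (𝟙 P)
  have hB := DTenLib.associator_natural (𝟙 U) (𝟙 ((DTen.RHomR A K).obj L)) α
  have hid : ∀ a b : Dual.D A, ((DTen.LTen₂ A).map (Prod.mkHom (𝟙 a) (𝟙 b))) = 𝟙 ((DTen.LTen₂ A).obj (a, b)) :=
    fun a b => (DTen.LTen₂ A).map_id (a, b)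
  rw [hid U ((DTen.RHomR A K).obj L)] at hB
  rw [reassoc_of% hA, reassoc_of% hB, DTenLib.map₂_comp, DTenLib.map₂_comp, DTen.RHom_map_ev]

theorem isIso_evalTen (U K M : Dual.D A) {a b : ℤ} (hU : DRing.HasTorAmplitudeIn A a b U)
    (hK : DRing.IsPseudoCoherent' A K) (n : ℤ) (hM : M.IsGE n) : IsIso (DTen.evalTen U M K) := by
  refine isIso_of_H _ fun i => ?_
  set m := n + a - i - 6
  obtain ⟨E, a', b', α, hE, hEf, hα, -⟩ := DRingKP.pc_of_pc' hK m
  have hP : DRing.IsPerfect A (DRing.toD E) :=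
    ⟨E, a', b', hE, DRingKP.termwiseFiniteProjective_of_free hEf, ⟨Iso.refl _⟩⟩
  haveI := DTenLib.isIso_evalTen_of_source U M (DRing.toD E) hP
  haveI := isIso_H_LTen_low hU (DTen.RHomMap α M) (n - m - 1)
    (fun j hj => isIso_H_RHomMap_low α m hα hM j hj) i (by lia)
  haveI := isIso_H_RHomMap_low α m hα (isGE_LTen hU hM) i (by lia)
  have e := congrArg (hf A i).map (evalTen_natural α U M)
  rw [Functor.map_comp, Functor.map_comp] at e
  have : IsIso ((hf A i).map (DTen.evalTen U M K) ≫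
      (hf A i).map (DTen.RHomMap α ((DTen.LTen₂ A).obj (U, M)))) := by
    rw [← e]; infer_instance
  exact IsIso.of_isIso_comp_right _ ((hf A i).map (DTen.RHomMap α ((DTen.LTen₂ A).obj (U, M))))

end Groth.Agent.DTenPC
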